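import Mathlib.RingTheory.UniqueFactorizationDomain.Kaplansky
import Mathlib.RingTheory.Localization.Ideal
import Mathlib.RingTheory.Localization.Away.Basic
import Mathlib.RingTheory.PrincipalIdealDomain

/-!
# Localisations of factorial rings and Nagata's criterion
-/

namespace Groth.Agent.UFDLib

universe u v

variable {A : Type u} [CommRing A] [IsDomain A]

omit [IsDomain A] in
/-- A localisation of a factorial domain is factorial. -/
theorem ufm_of_isLocalization [UniqueFactorizationMonoid A] (M : Submonoid A) (B : Type v) [CommRing B]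
    [IsDomain B] [Algebra A B] [IsLocalization M B] (hinj : Function.Injective (algebraMap A B)) :
    UniqueFactorizationMonoid B := by
  rw [UniqueFactorizationMonoid.iff_exists_prime_mem_of_isPrime]
  intro P hP hPp
  have hQ : P.comap (algebraMap A B) ≠ ⊥ := fun h => hP (by
    rw [← IsLocalization.map_comap M B P, show P.under A = ⊥ from h, Ideal.map_bot])
  obtain ⟨π, hπmem, hπ⟩ := (Ideal.IsPrime.comap (algebraMap A B) (K := P)).exists_mem_prime_of_ne_bot hQ
  refine ⟨algebraMap A B π, hπmem, ?_⟩
  have hdisj : Disjoint (M : Set A) (Ideal.span {π} : Ideal A) := by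
    rw [Set.disjoint_left]
    intro m hm hmem
    obtain ⟨c, rfl⟩ := Ideal.mem_span_singleton'.1 hmem
    refine hPp.ne_top (Ideal.eq_top_of_isUnit_mem _ (P.mul_mem_left (algebraMap A B c) hπmem) ?_)
    rw [← map_mul]
    exact IsLocalization.map_units B (⟨_, hm⟩ : M)
  have := IsLocalization.isPrime_of_isPrime_disjoint M B _ ((Ideal.span_singleton_prime hπ.ne_zero).2 hπ) hdisj
  rw [Ideal.map_span, Set.image_singleton] at this
  exact (Ideal.span_singleton_prime ((map_ne_zero_iff _ hinj).2 hπ.ne_zero)).1 this

/-- Nagata's criterion. -/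
theorem ufm_of_away [IsNoetherianRing A] {s : A} (hs : Prime s) (B : Type v) [CommRing B] [IsDomain B]
    [Algebra A B] [IsLocalization.Away s B] [UniqueFactorizationMonoid B] :
    UniqueFactorizationMonoid A := by
  have hinj : Function.Injective (algebraMap A B) :=
    IsLocalization.injective B (powers_le_nonZeroDivisors_of_noZeroDivisors hs.ne_zero)
  have hu : IsUnit (algebraMap A B s) := IsLocalization.Away.algebraMap_isUnit s
  rw [UniqueFactorizationMonoid.iff_exists_prime_mem_of_isPrime]
  intro P hP hPp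
  by_cases hsP : s ∈ P
  · exact ⟨s, hsP, hs⟩
  have hdisj : Disjoint (Submonoid.powers s : Set A) (P : Set A) := by
    rw [Set.disjoint_left]
    rintro _ ⟨k, rfl⟩ hk
    exact hsP (hPp.mem_of_pow_mem k hk)
  have hPB := IsLocalization.isPrime_of_isPrime_disjoint (Submonoid.powers s) B P hPp hdisj
  have hcomap : (P.map (algebraMap A B)).comap (algebraMap A B) = P :=
    IsLocalization.under_map_of_isPrime_disjoint (Submonoid.powers s) B hPp hdisj
  have hne : P.map (algebraMap A B) ≠ ⊥ := fun h => hP (by
    rw [← hcomap, h, Ideal.comap_bot_of_injective _ hinj])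
  obtain ⟨q, hqmem, hq⟩ := hPB.exists_mem_prime_of_ne_bot hne
  obtain ⟨k, a, ha⟩ := IsLocalization.Away.surj s q
  have ha0 : a ≠ 0 := fun h => hq.ne_zero (by
    rw [h, map_zero] at ha
    exact (hu.pow k).mul_left_eq_zero.1 ha)
  obtain ⟨j, π, hπ, rfl⟩ := WfDvdMonoid.max_power_factor ha0 hs.irreducible
  have hassoc : Associated q (algebraMap A B π) := by
    refine (associated_mul_unit_right q _ (hu.pow k)).trans ?_
    rw [ha, map_mul, map_pow]
    exact associated_unit_mul_left _ _ (hu.pow j)
  have hφπ : Prime (algebraMap A B π) := hassoc.prime hq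
  have hπP : π ∈ P := by
    rw [← hcomap, Ideal.mem_comap]
    obtain ⟨u, hu'⟩ := hassoc
    rw [← hu']
    exact Ideal.mul_mem_right _ _ hqmem
  have hdvd : ∀ x, algebraMap A B π ∣ algebraMap A B x → π ∣ x := by
    rintro x ⟨z, hz⟩
    obtain ⟨m, c, hc⟩ := IsLocalization.Away.surj s z
    have h : x * s ^ m = π * c := hinj (by rw [map_mul, map_mul, map_pow, hz, mul_assoc, hc])
    clear hc hz
    induction m generalizing c with
    | zero => exact ⟨c, by simpa using h⟩
    | succ m ih =>
      obtain ⟨c', rfl⟩ := (hs.dvd_or_dvd (show s ∣ π * c from ⟨x * s ^ m, by rw [← h]; ring⟩)).resolve_left hπ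
      exact ih c' (mul_right_cancel₀ hs.ne_zero (by rw [mul_assoc, ← pow_succ, h]; ring))
  refine ⟨π, hπP, ⟨fun h0 => hπ (h0 ▸ dvd_zero s), fun h1 => hφπ.not_isUnit (h1.map (algebraMap A B)), fun x y hxy => ?_⟩⟩
  have := hφπ.dvd_or_dvd (show algebraMap A B π ∣ algebraMap A B x * algebraMap A B y by
    rw [← map_mul]; exact map_dvd (algebraMap A B) hxy)
  exact this.imp (hdvd x) (hdvd y)

end Groth.Agent.UFDLib
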