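import Mathlib.RingTheory.IntegralClosure.IntegrallyClosed
import Mathlib.RingTheory.Polynomial.ScaleRoots
import Mathlib.RingTheory.Localization.Away.Basic
import Mathlib.RingTheory.Nilpotent.Lemmas

/-!
# Normality from a normal localisation and a radical principal ideal
-/

namespace Groth.Agent.UFDLib

universe u v

theorem isIntegrallyClosed_of_away {R : Type u} [CommRing R] [IsDomain R] {x : R} (hx : x ≠ 0)
    (hrad : (Ideal.span {x}).IsRadical) (L : Type v) [CommRing L] [IsDomain L] [Algebra R L]
    [IsLocalization.Away x L] [IsIntegrallyClosed L] : IsIntegrallyClosed R := by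
  let F := FractionRing R
  rw [isIntegrallyClosed_iff F]
  intro z hz
  have hxu : IsUnit (algebraMap R F x) :=
    isUnit_iff_ne_zero.2 ((map_ne_zero_iff _ (IsFractionRing.injective R F)).2 hx)
  let : Algebra L F := (IsLocalization.Away.lift x hxu : L →+* F).toAlgebra
  have : IsScalarTower R L F := IsScalarTower.of_algebraMap_eq fun r =>
    (IsLocalization.Away.lift_eq x hxu r).symm
  have : IsFractionRing L F :=
    IsFractionRing.isFractionRing_of_isLocalization (Submonoid.powers x) L F
      (powers_le_nonZeroDivisors_of_noZeroDivisors hx)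
  obtain ⟨l, hl⟩ := (isIntegrallyClosed_iff F).1 ‹IsIntegrallyClosed L› (hz.tower_top (A := L))
  obtain ⟨k, a, ha⟩ := IsLocalization.Away.surj x l
  have h : z * algebraMap R F x ^ k = algebraMap R F a := by
    rw [← hl, IsScalarTower.algebraMap_apply R L F, IsScalarTower.algebraMap_apply R L F a, ← map_pow, ← map_mul,
      ha]
  clear ha hl
  obtain ⟨p, hp, hpz⟩ := hz
  induction k generalizing a with
  | zero => exact ⟨a, by simpa using h.symm⟩
  | succ k ih =>
    have h0 : Polynomial.eval₂ (algebraMap R F) (algebraMap R F a) (p.scaleRoots (x ^ (k + 1))) = 0 := by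
      rw [← h, mul_comm, ← map_pow]
      exact Polynomial.scaleRoots_eval₂_eq_zero _ hpz
    rw [Polynomial.eval₂_at_apply, map_eq_zero_iff _ (IsFractionRing.injective R F)] at h0
    have hmem : a ∈ Ideal.span {x} := by
      by_cases htop : Ideal.span {x} = ⊤
      · rw [htop]; trivial
      refine hrad ⟨p.natDegree, ?_⟩
      have : Nontrivial (R ⧸ Ideal.span {x}) := Ideal.Quotient.nontrivial_iff.2 htop
      have hq := congrArg (Ideal.Quotient.mk (Ideal.span {x})) h0
      rw [map_zero, ← Polynomial.eval_map_apply, Polynomial.map_scaleRoots _ _ _ (by simp [hp.leadingCoeff]),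
        map_pow, show Ideal.Quotient.mk (Ideal.span {x}) x = 0 from
          Ideal.Quotient.eq_zero_iff_mem.2 (Ideal.mem_span_singleton_self x),
        zero_pow (Nat.succ_ne_zero k), Polynomial.scaleRoots_zero, (hp.map _).leadingCoeff, one_smul,
        Polynomial.eval_pow, Polynomial.eval_X, hp.natDegree_map, ← map_pow] at hq
      exact Ideal.Quotient.eq_zero_iff_mem.1 hq
    obtain ⟨b, rfl⟩ := Ideal.mem_span_singleton'.1 hmem
    refine ih b (hxu.mul_left_injective ?_)
    simp only [mul_assoc, ← pow_succ, h, map_mul]

end Groth.Agent.UFDLib
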